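/-
Siegel elements of a special unitary group: their algebra, and generation by two opposite radicals.
-/
import Cfsg.Agent.Lib.KnownA.SuGen.Basic
import Cfsg.Agent.Lib.Classical.UnitaryGen

set_option autoImplicit false

namespace CfsgLib.KnownA.SuTwo

open Matrix CfsgLib.Classical CfsgLib.Classical.Unitary CfsgLib.KnownA.SuGen

variable {F : Type*} [Field F] {σ : F →+* F} {q n : ℕ}

/-- the element acts as the Siegel element of `a`, `w`, `z` -/
def Ac (σ : F →+* F) (g : Cfsg.SU n F q) (a w : Fin n → F) (z : F) : Prop :=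
  ∀ x, g.1.1 *ᵥ x = x + uh σ x a • w + (z * uh σ x a - uh σ x w) • a

theorem exists_ac (h : UFrob σ q) {a w : Fin n → F} {z : F} (haa : uh σ a a = 0)
    (hwa : uh σ w a = 0) (hz : z + σ z + uh σ w w = 0) : ∃ g : Cfsg.SU n F q, Ac σ g a w z :=
  ⟨usg h a w 1 z haa hwa (by rw [map_one, one_mul, one_mul]; exact hz), fun x => by
    rw [usg_mulVec, one_mul, map_one, one_mul]⟩

namespace Ac

variable {g g' : Cfsg.SU n F q} {a w w' : Fin n → F} {z z' : F}

theorem uniq (hg : Ac σ g a w z) (hg' : Ac σ g' a w z) : g = g' := su_ext fun x => by rw [hg, hg']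

theorem congr (hg : Ac σ g a w z) (hw : w = w') (hz : z = z') : Ac σ g a w' z' := hw ▸ hz ▸ hg

theorem mul (haa : uh σ a a = 0) (haw : uh σ a w = 0) (hw'a : uh σ w' a = 0) (hg : Ac σ g a w z)
    (hg' : Ac σ g' a w' z') : Ac σ (g * g') a (w + w') (z + z' - uh σ w' w) := fun x => by
  rw [su_mul_mulVec, hg', hg]
  simp only [uh_add_left, uh_smul_left, uh_add_right, haa, haw, hw'a]
  module

theorem inv (haa : uh σ a a = 0) (haw : uh σ a w = 0) (hwa : uh σ w a = 0) (hg : Ac σ g a w z) :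
    Ac σ g⁻¹ a (-w) (-z - uh σ w w) := fun x => by
  conv_rhs => rw [← su_inv_mulVec g (x + uh σ x a • -w +
    ((-z - uh σ w w) * uh σ x a - uh σ x (-w)) • a)]
  rw [hg]
  congr 1
  simp only [← neg_one_smul F w, uh_add_left, uh_smul_left, uh_smul_right, map_neg, map_one, haa,
    haw, hwa]
  module

theorem conj (h : UFrob σ q) (t : Cfsg.SU n F q) (hg : Ac σ g a w z) :
    Ac σ (t * g * t⁻¹) (t.1.1 *ᵥ a) (t.1.1 *ᵥ w) z := fun x => by
  rw [su_mul_mulVec, su_mul_mulVec, hg, mulVec_add, mulVec_add, mulVec_smul, mulVec_smul,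
    su_mulVec_inv, uh_inv_mulVec h, uh_inv_mulVec h]

theorem unscale (h : UFrob σ q) (ξ : F) (hg : Ac σ g (ξ • a) w z) :
    Ac σ g a (σ ξ • w) (z * (ξ * σ ξ)) := fun x => by
  rw [hg, uh_smul_right, uh_smul_right, h.invol]
  module

/-- the two descriptions of a short root element -/
theorem flip (h : UFrob σ q) {b : Fin n → F} {s : F} (hg : Ac σ g a (s • b) 0) :
    Ac σ g b (-σ s • a) 0 := fun x => by
  rw [hg, uh_smul_right, uh_smul_right, map_neg, h.invol]
  module

theorem constraint (h : UFrob σ q) {p : Fin n → F} (haa : uh σ a a = 0) (hwa : uh σ w a = 0)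
    (hpa : uh σ p a = 1) (hg : Ac σ g a w z) : z + σ z + uh σ w w = 0 := by
  have := su_uh h g p p
  rw [hg p, hpa] at this
  simp only [uh_add_left, uh_add_right, uh_smul_left, uh_smul_right, haa, hwa, h.swap_zero hwa, hpa,
    map_one, map_sub, map_mul, h.symm, show uh σ a p = 1 by rw [← h.symm, hpa, map_one]] at this
  linear_combination this

end Ac

/-- the index -/
def ix {k : ℕ} : Fin k ⊕ Fin k → Fin k := Sum.elim id id

@[simp] lemma ix_inl {k : ℕ} (i : Fin k) : ix (Sum.inl i) = i := rfl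
@[simp] lemma ix_inr {k : ℕ} (i : Fin k) : ix (Sum.inr i) = i := rfl
@[simp] lemma ix_swap {k : ℕ} (A : Fin k ⊕ Fin k) : ix A.swap = ix A := by cases A <;> rfl

/-- a hyperbolic family and a vector spanning the orthogonal complement -/
structure Data (σ : F →+* F) (n k : ℕ) where
  E : Fin k ⊕ Fin k → Fin n → F
  d : Fin n → F
  pol : ∀ A B, uh σ (E A) (E B) = if B = A.swap then 1 else 0
  pd : ∀ A, uh σ (E A) d = 0
  dd : uh σ d d = 1 ∨ d = 0
  dec : ∀ x, x - ∑ A, uh σ x (E A.swap) • E A = uh σ x d • d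

namespace Data

variable {k : ℕ} (D : Data σ n k)

lemma sing (A : Fin k ⊕ Fin k) : uh σ (D.E A) (D.E A) = 0 := by
  rw [D.pol, if_neg (by cases A <;> simp)]

lemma pol_one (A : Fin k ⊕ Fin k) : uh σ (D.E A) (D.E A.swap) = 1 := by rw [D.pol, if_pos rfl]

lemma pol_one' (A : Fin k ⊕ Fin k) : uh σ (D.E A.swap) (D.E A) = 1 := by
  rw [D.pol, if_pos (Sum.swap_swap A).symm]

lemma pol_ix {A B : Fin k ⊕ Fin k} (h : ix A ≠ ix B) : uh σ (D.E A) (D.E B) = 0 := by
  rw [D.pol, if_neg]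
  rintro rfl
  exact h (ix_swap A).symm

lemma pd' (h : UFrob σ q) (A : Fin k ⊕ Fin k) : uh σ D.d (D.E A) = 0 := h.swap_zero (D.pd A)

lemma ext_family {g g' : Cfsg.SU n F q} (hE : ∀ A, g.1.1 *ᵥ D.E A = g'.1.1 *ᵥ D.E A)
    (hd : g.1.1 *ᵥ D.d = g'.1.1 *ᵥ D.d) : g = g' := su_ext fun x => by
  conv_lhs => rw [show x = uh σ x D.d • D.d + ∑ A, uh σ x (D.E A.swap) • D.E A from
    sub_eq_iff_eq_add.1 (D.dec x)]
  conv_rhs => rw [show x = uh σ x D.d • D.d + ∑ A, uh σ x (D.E A.swap) • D.E A from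
    sub_eq_iff_eq_add.1 (D.dec x)]
  simp [mulVec_add, mulVec_smul, Matrix.mulVec_sum, hE, hd]

/-- a short root element -/
def X (H : Subgroup (Cfsg.SU n F q)) (A B : Fin k ⊕ Fin k) (s : F) : Prop :=
  ∃ g ∈ H, Ac σ g (D.E A) (s • D.E B) 0

/-- a long root element -/
def L (H : Subgroup (Cfsg.SU n F q)) (A : Fin k ⊕ Fin k) (z : F) : Prop :=
  ∃ g ∈ H, Ac σ g (D.E A) 0 z

/-- a root element along the complement -/
def P (H : Subgroup (Cfsg.SU n F q)) (A : Fin k ⊕ Fin k) (a : F) : Prop :=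
  ∃ g ∈ H, ∃ z, Ac σ g (D.E A) (a • D.d) z

/-- all root elements give the whole group -/
theorem top_of_roots [Finite F] (hF : Nat.card F = q ^ 2) (hn : 4 ≤ n) (h : UFrob σ q)
    {H : Subgroup (Cfsg.SU n F q)} (i₀ : Fin k)
    (hX : ∀ A B, ix A ≠ ix B → ∀ s, D.X H A B s) (hL : ∀ A z, z + σ z = 0 → D.L H A z)
    (hP : ∀ A a, D.P H A a) : H = ⊤ := by
  classical
  have htop := transvGroup_eq_top hF h n (by omega) (by omega)
  -- the radicals
  have rad : ∀ A w z, uh σ w (D.E A) = 0 → uh σ w (D.E A.swap) = 0 → z + σ z + uh σ w w = 0 →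
      ∃ g ∈ H, Ac σ g (D.E A) w z := by
    intro A w z hwA hwA' hz
    let M : AddSubgroup (Fin n → F) :=
      { carrier := {w | uh σ w (D.E A) = 0 ∧ ∃ g ∈ H, ∃ z, Ac σ g (D.E A) w z}
        zero_mem' := ⟨uh_zero_left _, 1, one_mem H, 0, fun x => by simp [uh_zero_right]⟩
        add_mem' := by
          rintro a b ⟨ha, g, hg, z, hz⟩ ⟨hb, g', hg', z', hz'⟩
          exact ⟨by rw [uh_add_left, ha, hb, add_zero], g * g', mul_mem hg hg', _,
            hz.mul (D.sing A) (h.swap_zero ha) hb hz'⟩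
        neg_mem' := by
          rintro a ⟨ha, g, hg, z, hz⟩
          exact ⟨by rw [← neg_one_smul F, uh_smul_left, ha, mul_zero], g⁻¹, inv_mem hg, _,
            hz.inv (D.sing A) (h.swap_zero ha) ha⟩ }
    have hw : w ∈ M := by
      rw [show w = uh σ w D.d • D.d + ∑ B, uh σ w (D.E B.swap) • D.E B from
        sub_eq_iff_eq_add.1 (D.dec w)]
      refine add_mem ⟨by rw [uh_smul_left, D.pd' h, mul_zero], hP A _⟩ (sum_mem fun B _ => ?_)
      rcases eq_or_ne (ix A) (ix B) with e | e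
      · suffices uh σ w (D.E B.swap) = 0 by rw [this, zero_smul]; exact zero_mem M
        rcases A with i | i <;> rcases B with j | j <;> simp at e <;> subst e <;> assumption
      · exact ⟨by rw [uh_smul_left, D.pol_ix e.symm, mul_zero],
          let ⟨g, hg, hg'⟩ := hX A B e _; ⟨g, hg, 0, hg'⟩⟩
    obtain ⟨-, g, hg, z', hz'⟩ := hw
    have hc := hz'.constraint h (D.sing A) hwA (D.pol_one' A)
    obtain ⟨t, ht, ht'⟩ := hL A (z - z') (by rw [map_sub]; linear_combination hz - hc)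
    refine ⟨g * t, mul_mem hg ht, (hz'.mul (D.sing A) (h.swap_zero hwA) (uh_zero_left _) ht').congr
      (add_zero w) (by rw [uh_zero_left]; ring)⟩
  -- transitivity
  set e := D.E (.inl i₀)
  set f := D.E (.inr i₀)
  have hee : uh σ e e = 0 := D.sing _
  have hff : uh σ f f = 0 := D.sing _
  have hef : uh σ e f = 1 := D.pol_one (.inl i₀)
  have hfe : uh σ f e = 1 := D.pol_one (.inr i₀)
  let O : (Fin n → F) → Prop := fun x => ∃ g ∈ H, ∃ r : F, g.1.1 *ᵥ x = r • e
  have back : ∀ (g : Cfsg.SU n F q) x, g ∈ H → O (g.1.1 *ᵥ x) → O x := by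
    rintro g x hg ⟨g', hg', r, e'⟩
    exact ⟨g' * g, mul_mem hg' hg, r, by rw [su_mul_mulVec, e']⟩
  have fwd : ∀ (g : Cfsg.SU n F q) x, g ∈ H → O x → O (g.1.1 *ᵥ x) := fun g x hg hx =>
    back g⁻¹ _ (inv_mem hg) (by rwa [su_inv_mulVec])
  have scale : ∀ (β : F) x, O x → O (β • x) := by
    rintro β x ⟨g, hg, r, e'⟩
    exact ⟨g, hg, β * r, by rw [mulVec_smul, e', smul_smul]⟩
  have hOe : O e := ⟨1, one_mem H, 1, by rw [su_one_mulVec, one_smul]⟩
  -- an isotropic vector not orthogonal to one of the pair is reached from the other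
  have reach : ∀ (A : Fin k ⊕ Fin k) x, uh σ x x = 0 → uh σ x (D.E A) ≠ 0 → O (D.E A.swap) →
      O x := by
    intro A x hx hb hO
    obtain ⟨β, hβ⟩ : ∃ β, uh σ x (D.E A) = β := ⟨_, rfl⟩
    rw [hβ] at hb
    set y := β⁻¹ • x with hy
    have hyA : uh σ y (D.E A) = 1 := by rw [hy, uh_smul_left, hβ, inv_mul_cancel₀ hb]
    have hyy : uh σ y y = 0 := by rw [hy, uh_smul_left, uh_smul_right, hx, mul_zero, mul_zero]
    clear_value y
    set ζ := uh σ y (D.E A.swap) with hζ
    set w := y - D.E A.swap - ζ • D.E A with hw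
    have hAA : uh σ (D.E A.swap) (D.E A.swap) = 0 := D.sing _
    obtain ⟨g, hg, hg'⟩ := rad A w ζ
      (by rw [hw, uh_sub_left, uh_sub_left, uh_smul_left, hyA, D.pol_one', D.sing]; ring)
      (by rw [hw, uh_sub_left, uh_sub_left, uh_smul_left, hAA, D.pol_one, ← hζ]; ring)
      (by
        simp only [hw, uh_sub_left, uh_sub_right, uh_smul_left, uh_smul_right, hyy, hyA, hAA,
          D.sing, D.pol_one, D.pol_one', ← hζ, show uh σ (D.E A) y = 1 by rw [← h.symm, hyA, map_one],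
          show uh σ (D.E A.swap) y = σ ζ by rw [hζ, h.symm]]
        ring)
    have e1 : g.1.1 *ᵥ D.E A.swap = y := by
      rw [hg', D.pol_one', show uh σ (D.E A.swap) w = 0 from h.swap_zero
        (by rw [hw, uh_sub_left, uh_sub_left, uh_smul_left, hAA, D.pol_one, ← hζ]; ring), hw]
      module
    have : O (β • y) := scale β y (e1 ▸ fwd g _ hg hO)
    rwa [hy, smul_smul, mul_inv_cancel₀ hb, one_smul] at this
  have hOf : O f := by
    obtain ⟨c, hc0, hc⟩ := exists_skew h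
    obtain ⟨t, ht, ht'⟩ := rad (.inl i₀) 0 c (uh_zero_left _) (uh_zero_left _)
      (by rw [uh_zero_left, add_zero, hc])
    obtain ⟨t', hs, hs'⟩ := rad (.inr i₀) 0 (-c⁻¹) (uh_zero_left _) (uh_zero_left _) (by
      rw [uh_zero_left, add_zero, map_neg, map_inv₀, eq_neg_of_add_eq_zero_right hc, inv_neg]
      ring)
    refine ⟨t' * t, mul_mem hs ht, c, ?_⟩
    rw [su_mul_mulVec, ht', uh_zero_right, sub_zero, smul_zero, add_zero, hfe, mul_one, hs',
      uh_zero_right, sub_zero, smul_zero, add_zero]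
    rw [uh_add_left, uh_smul_left, show uh σ f (D.E (.inr i₀)) = 0 from hff,
      show uh σ (D.E (.inl i₀)) (D.E (.inr i₀)) = 1 from hef]
    match_scalars <;> field_simp <;> ring
  have all : ∀ x, uh σ x x = 0 → O x := by
    intro x hx
    rcases ne_or_eq (uh σ x e) 0 with hb | hb
    · exact reach (.inl i₀) x hx hb hOf
    rcases ne_or_eq (uh σ x f) 0 with hb' | hb'
    · exact reach (.inr i₀) x hx hb' hOe
    rcases eq_or_ne x 0 with rfl | hx0
    · exact ⟨1, one_mem H, 0, by simp⟩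
    obtain ⟨p, hp⟩ := exists_uh_eq_one h hx0
    obtain ⟨θ, hθ⟩ := exists_trace h
    set w := p - uh σ p f • e - uh σ p e • f with hw
    have hwe : uh σ w e = 0 := by
      rw [hw, uh_sub_left, uh_sub_left, uh_smul_left, uh_smul_left, hee, hfe]; ring
    have hwf : uh σ w f = 0 := by
      rw [hw, uh_sub_left, uh_sub_left, uh_smul_left, uh_smul_left, hef, hff]; ring
    have hwx : uh σ x w = 1 := by
      rw [hw, uh_sub_right, uh_sub_right, uh_smul_right, uh_smul_right, hb, hb', ← h.symm p x, hp,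
        map_one]
      ring
    obtain ⟨g, hg, hg'⟩ := rad (.inr i₀) w (-θ * uh σ w w) hwf hwe (by
      rw [map_mul, map_neg, h.symm]
      linear_combination (-(uh σ w w)) * hθ)
    refine back g x hg (reach (.inl i₀) _ (by rw [su_uh h, hx]) ?_ hOf)
    rw [hg', uh_add_left, uh_add_left, uh_smul_left, uh_smul_left, hb, hb', hwx, hwe]
    show 0 + 0 * 0 + (_ * 0 - 1) * uh σ f e ≠ 0
    rw [hfe]
    simp
  refine eq_top_of_full h htop fun x hx _ c hc => ?_
  obtain ⟨g, hg, r, hr⟩ := all x hx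
  obtain ⟨t, ht, ht'⟩ := hL (.inl i₀) (c * (r * σ r)) (by
    rw [map_mul, map_mul, h.invol]
    linear_combination (r * σ r) * hc)
  have hxe : x = r • ((g⁻¹).1.1 *ᵥ e) := by rw [← mulVec_smul, ← hr, su_inv_mulVec]
  refine ⟨g⁻¹ * t * g⁻¹⁻¹, mul_mem (mul_mem (inv_mem hg) ht) (inv_mem (inv_mem hg)), fun y => ?_⟩
  rw [ht'.conj h g⁻¹ y, mulVec_zero, uh_zero_right, sub_zero, smul_zero, add_zero, hxe,
    uh_smul_right]
  module

end Data

end CfsgLib.KnownA.SuTwo
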