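/-
Monomial and diagonal elements of a special unitary group.
-/
import Cfsg.Agent.Lib.KnownA.SuTwo.Basic

set_option autoImplicit false

namespace CfsgLib.KnownA.SuTwo

open Matrix Equiv CfsgLib.Classical CfsgLib.Classical.Unitary CfsgLib.KnownA.SuGen

variable {F : Type*} [Field F] {σ : F →+* F} {q n k : ℕ}

namespace Data

variable (D : Data σ n k)

/-- acts on the family by a permutation and scalars -/
def Mono (g : Cfsg.SU n F q) (f : Fin k ⊕ Fin k → Fin k ⊕ Fin k) : Prop :=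
  (∀ A, ∃ s : F, s ≠ 0 ∧ g.1.1 *ᵥ D.E A = s • D.E (f A)) ∧ g.1.1 *ᵥ D.d = D.d

lemma exists_X (h : UFrob σ q) {A B : Fin k ⊕ Fin k} (hAB : ix A ≠ ix B) (s : F) :
    ∃ g : Cfsg.SU n F q, Ac σ g (D.E A) (s • D.E B) 0 :=
  exists_ac h (D.sing A) (by rw [uh_smul_left, D.pol_ix hAB.symm, mul_zero])
    (by rw [uh_smul_left, uh_smul_right, D.sing, map_zero]; ring)

lemma exists_L (h : UFrob σ q) (A : Fin k ⊕ Fin k) {z : F} (hz : z + σ z = 0) :
    ∃ g : Cfsg.SU n F q, Ac σ g (D.E A) 0 z :=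
  exists_ac h (D.sing A) (uh_zero_left _) (by rw [uh_zero_left, add_zero, hz])

lemma exists_flipper (h : UFrob σ q) (i : Fin k) :
    ∃ g : Cfsg.SU n F q, D.Mono g (fun A => if ix A = i then A.swap else A) := by
  obtain ⟨c, hc0, hc⟩ := exists_skew h
  have hσc : σ c = -c := eq_neg_of_add_eq_zero_right hc
  obtain ⟨t, ht⟩ := D.exists_L h (.inl i) hc
  obtain ⟨t', ht'⟩ := D.exists_L h (.inr i) (z := -c⁻¹) (by
    rw [map_neg, map_inv₀, hσc, inv_neg]; ring)
  refine ⟨t * t' * t, fun A => ?_, ?_⟩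
  · have e1 : uh σ (D.E (.inl i)) (D.E (.inr i)) = 1 := D.pol_one (.inl i)
    have e2 : uh σ (D.E (.inr i)) (D.E (.inl i)) = 1 := D.pol_one (.inr i)
    by_cases hA : ix A = i
    · rcases A with j | j <;> simp at hA <;> subst hA
      · refine ⟨-c⁻¹, neg_ne_zero.2 (inv_ne_zero hc0), ?_⟩
        simp only [su_mul_mulVec, ht _, ht' _, uh_zero_right, smul_zero, add_zero, sub_zero,
          uh_add_left, uh_smul_left, D.sing, e1, e2, ix_inl, if_pos, Sum.swap_inl]
        match_scalars <;> field_simp <;> ring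
      · refine ⟨c, hc0, ?_⟩
        simp only [su_mul_mulVec, ht _, ht' _, uh_zero_right, smul_zero, add_zero, sub_zero,
          uh_add_left, uh_smul_left, D.sing, e1, e2, ix_inr, if_pos, Sum.swap_inr]
        match_scalars <;> field_simp <;> ring
    · refine ⟨1, one_ne_zero, ?_⟩
      have z1 : uh σ (D.E A) (D.E (.inl i)) = 0 := D.pol_ix (by simpa using hA)
      have z2 : uh σ (D.E A) (D.E (.inr i)) = 0 := D.pol_ix (by simpa using hA)
      rw [su_mul_mulVec, su_mul_mulVec]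
      simp [ht _, ht' _, uh_zero_right, z1, z2, if_neg hA]
  · rw [su_mul_mulVec, su_mul_mulVec]
    simp [ht _, ht' _, uh_zero_right, D.pd' h]

/-- the element exchanging two orthogonal isotropic lines -/
lemma exists_ww (h : UFrob σ q) {A B : Fin k ⊕ Fin k} (hAB : ix A ≠ ix B) {t : F} (ht : t ≠ 0) :
    ∃ g : Cfsg.SU n F q, g.1.1 *ᵥ D.E A.swap = t • D.E B ∧ g.1.1 *ᵥ D.E B = -t⁻¹ • D.E A.swap ∧
      g.1.1 *ᵥ D.E A = (σ t)⁻¹ • D.E B.swap ∧ g.1.1 *ᵥ D.E B.swap = -σ t • D.E A ∧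
      (∀ C, ix C ≠ ix A → ix C ≠ ix B → g.1.1 *ᵥ D.E C = D.E C) ∧ g.1.1 *ᵥ D.d = D.d := by
  have hBA : ix B.swap ≠ ix A.swap := by rw [ix_swap, ix_swap]; exact hAB.symm
  obtain ⟨x, hx⟩ := D.exists_X h hAB t
  obtain ⟨y, hy⟩ := D.exists_X h hBA (-t⁻¹)
  have ht' : σ t ≠ 0 := (map_ne_zero σ).2 ht
  have a1 := D.pol_one A
  have a2 := D.pol_one' A
  have b1 := D.pol_one B
  have b2 := D.pol_one' B
  have z1 := D.pol_ix hAB
  have z2 := D.pol_ix hAB.symm
  have z3 := D.pol_ix hBA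
  have z4 := D.pol_ix hBA.symm
  have z5 := D.pol_ix (A := A) (B := B.swap) (by rwa [ix_swap])
  have z6 := D.pol_ix (A := B.swap) (B := A) (by rw [ix_swap]; exact hAB.symm)
  have z7 := D.pol_ix (A := A.swap) (B := B) (by rwa [ix_swap])
  have z8 := D.pol_ix (A := B) (B := A.swap) (by rw [ix_swap]; exact hAB.symm)
  refine ⟨x * y * x, ?_, ?_, ?_, ?_, fun C h1 h2 => ?_, ?_⟩
  rotate_left 4
  · have c1 := D.pol_ix (A := C) (B := A) h1
    have c2 := D.pol_ix (A := C) (B := B) h2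
    have c3 := D.pol_ix (A := C) (B := A.swap) (by rwa [ix_swap])
    have c4 := D.pol_ix (A := C) (B := B.swap) (by rwa [ix_swap])
    rw [su_mul_mulVec, su_mul_mulVec]
    simp only [hx _, hy _, uh_smul_right, uh_add_left, uh_smul_left, c1, c2, c3, c4]
    module
  · rw [su_mul_mulVec, su_mul_mulVec]
    simp only [hx _, hy _, uh_smul_right, uh_add_left, uh_smul_left, D.pd' h]
    module
  all_goals
    simp only [su_mul_mulVec, hx _, hy _, uh_smul_right, uh_add_left, uh_smul_left, D.sing, a1, a2,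
      b1, b2, z1, z2, z3, z4, z5, z6, z7, z8, map_neg, map_inv₀]
    match_scalars <;> field_simp <;> ring

lemma exists_perm (h : UFrob σ q) (π : Perm (Fin k)) :
    ∃ g : Cfsg.SU n F q, D.Mono g (Sum.map π π) := by
  induction π using Equiv.Perm.swap_induction_on with
  | one => exact ⟨1, fun A => ⟨1, one_ne_zero, by cases A <;> simp⟩, su_one_mulVec _⟩
  | swap_mul π a b hab ih =>
    obtain ⟨g, hg, hgd⟩ := ih
    obtain ⟨w, w1, w2, w3, w4, wo, wd⟩ :=
      D.exists_ww h (A := .inr a) (B := .inl b) (by simpa using hab) one_ne_zero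
    refine ⟨w * g, fun A => ?_, by rw [su_mul_mulVec, hgd, wd]⟩
    obtain ⟨s, hs, e⟩ := hg A
    have hw : ∀ C : Fin k ⊕ Fin k,
        ∃ r : F, r ≠ 0 ∧ w.1.1 *ᵥ D.E C = r • D.E (Sum.map (swap a b) (swap a b) C) := by
      simp only [Sum.swap_inr, Sum.swap_inl, map_one, inv_one] at w1 w2 w3 w4
      rintro (c | c) <;> rcases eq_or_ne c a with rfl | h1
      · exact ⟨1, one_ne_zero, by simpa using w1⟩
      · rcases eq_or_ne c b with rfl | h2
        · exact ⟨-1, by simp, by simpa using w2⟩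
        · exact ⟨1, one_ne_zero, by
            rw [wo _ (by simpa using h1) (by simpa using h2)]
            simp [swap_apply_of_ne_of_ne h1 h2]⟩
      · exact ⟨1, one_ne_zero, by simpa using w3⟩
      · rcases eq_or_ne c b with rfl | h2
        · exact ⟨-1, by simp, by simpa using w4⟩
        · exact ⟨1, one_ne_zero, by
            rw [wo _ (by simpa using h1) (by simpa using h2)]
            simp [swap_apply_of_ne_of_ne h1 h2]⟩
    obtain ⟨r, hr, e'⟩ := hw (Sum.map π π A)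
    refine ⟨s * r, mul_ne_zero hs hr, ?_⟩
    rw [su_mul_mulVec, e, mulVec_smul, e', smul_smul]
    cases A <;> rfl

/-- a diagonal element on two pairs -/
lemma exists_tor (h : UFrob σ q) {i j : Fin k} (hij : i ≠ j) {μ : F} (hμ : μ ≠ 0) :
    ∃ g : Cfsg.SU n F q, g.1.1 *ᵥ D.E (.inl i) = μ • D.E (.inl i) ∧
      g.1.1 *ᵥ D.E (.inr i) = (σ μ)⁻¹ • D.E (.inr i) ∧
      g.1.1 *ᵥ D.E (.inl j) = σ μ • D.E (.inl j) ∧ g.1.1 *ᵥ D.E (.inr j) = μ⁻¹ • D.E (.inr j) ∧
      (∀ C, ix C ≠ i → ix C ≠ j → g.1.1 *ᵥ D.E C = D.E C) ∧ g.1.1 *ᵥ D.d = D.d := by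
  obtain ⟨w, w1, w2, w3, w4, wo, wd⟩ :=
    D.exists_ww h (A := .inr i) (B := .inr j) (by simpa using hij) (inv_ne_zero hμ)
  obtain ⟨v, v1, v2, v3, v4, vo, vd⟩ :=
    D.exists_ww h (A := .inr i) (B := .inr j) (by simpa using hij) (t := -1) (by simp)
  refine ⟨w * v, ?_, ?_, ?_, ?_, fun C h1 h2 => ?_, ?_⟩
  all_goals rw [su_mul_mulVec]
  rotate_left 4
  · rw [vo C (by simpa using h1) (by simpa using h2), wo C (by simpa using h1) (by simpa using h2)]
  · rw [vd, wd]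
  all_goals
    simp only [Sum.swap_inr, map_neg, map_one, inv_neg, inv_one, neg_neg, one_smul, neg_smul,
      inv_inv, map_inv₀] at v1 v2 v3 v4 w1 w2 w3 w4
    simp [v1, v2, v3, v4, w1, w2, w3, w4, mulVec_neg]

end Data

end CfsgLib.KnownA.SuTwo
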