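/-
Two generators of a special unitary group of dimension at least four.
-/
import Cfsg.Agent.Lib.KnownA.SuTwo.Elems
import Mathlib.Logic.Equiv.Fin.Rotate

set_option autoImplicit false

namespace CfsgLib.KnownA.SuTwo

open Matrix Equiv CfsgLib.Classical CfsgLib.Classical.Unitary CfsgLib.KnownA.SuGen

variable {F : Type*} [Field F] {σ : F →+* F} {q n : ℕ}

/-- a generator of the multiplicative group has no proper subring containing it or its square -/
theorem exists_primitive [Finite F] (h : UFrob σ q) :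
    ∃ μ : F, μ ≠ 0 ∧ σ μ ≠ μ ∧ μ * μ ≠ 1 ∧
      ∀ R : Subring F, μ * μ ∈ R → R = ⊤ := by
  obtain ⟨ω, hω⟩ := IsCyclic.exists_generator (α := Fˣ)
  have pows : ∀ t : F, t ≠ 0 → ∃ i : ℕ, (ω : F) ^ i = t := fun t ht => by
    obtain ⟨i, hi⟩ := Submonoid.mem_powers_iff _ _ |>.1
      ((isOfFinOrder_of_finite ω).mem_powers_iff_mem_zpowers.2 (hω (Units.mk0 t ht)))
    exact ⟨i, by simpa using congrArg Units.val hi⟩
  have hne : σ (ω : F) ≠ ω := fun e => h.ne (RingHom.ext fun t => by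
    rcases eq_or_ne t 0 with rfl | ht
    · simp
    obtain ⟨i, rfl⟩ := pows t ht
    rw [map_pow, e, RingHom.id_apply])
  refine ⟨ω, ω.ne_zero, hne, fun e => hne ?_, fun R hR => eq_top_iff.2 fun t _ => ?_⟩
  · rcases mul_self_eq_one_iff.1 e with e | e <;> rw [e] <;> simp
  have sq : ∀ s : F, s * s ∈ R := fun s => by
    rcases eq_or_ne s 0 with rfl | hs
    · rw [mul_zero]; exact zero_mem R
    obtain ⟨i, rfl⟩ := pows s hs
    rw [← mul_pow]
    exact pow_mem hR i
  have twice : ∀ s : F, 2 * s ∈ R := fun s => by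
    rw [show 2 * s = (s + 1) * (s + 1) - s * s - 1 by ring]
    exact sub_mem (sub_mem (sq _) (sq _)) (one_mem R)
  by_cases h2 : (2 : F) = 0
  · haveI := Fintype.ofFinite F
    haveI := CharTwo.of_one_ne_zero_of_two_eq_zero (one_ne_zero (α := F)) h2
    obtain ⟨s, rfl⟩ := FiniteField.isSquare_of_char_two (ringChar.eq F 2) t
    exact sq s
  · simpa [mul_div_cancel₀ t h2] using twice (t / 2)

namespace Data

section

variable {k : ℕ} (D : Data σ n k) {H : Subgroup (Cfsg.SU n F q)}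

/-- the quotient of two elements at one point -/
lemma diff (h : UFrob σ q) {A : Fin k ⊕ Fin k} {g₀ g₁ : Cfsg.SU n F q} {w₀ w₁ : Fin n → F}
    {z₀ z₁ : F} (h₀ : uh σ w₀ (D.E A) = 0) (h₁ : uh σ w₁ (D.E A) = 0)
    (e₀ : Ac σ g₀ (D.E A) w₀ z₀) (e₁ : Ac σ g₁ (D.E A) w₁ z₁) :
    Ac σ (g₀⁻¹ * g₁) (D.E A) (w₁ - w₀) (z₁ - z₀ - uh σ w₀ w₀ + uh σ w₁ w₀) := by
  refine ((e₀.inv (D.sing A) (h.swap_zero h₀) h₀).mul (D.sing A) ?_ h₁ e₁).congr (by module) ?_
  · exact h.swap_zero (by rw [← neg_one_smul F, uh_smul_left, h₀, mul_zero])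
  · rw [← neg_one_smul F w₀, uh_smul_right, map_neg, map_one]; ring

/-- long root elements from two elements along a pairing -/
lemma L_of (h : UFrob σ q) {A : Fin k ⊕ Fin k} {v v' : Fin n → F} (hv : uh σ v (D.E A) = 0)
    (hv' : uh σ v' (D.E A) = 0) (hvv : uh σ v v' = 1)
    (e : ∀ r : F, ∃ g ∈ H, ∃ z, Ac σ g (D.E A) (r • v) z)
    (e' : ∃ g ∈ H, ∃ z, Ac σ g (D.E A) v' z) {c : F} (hc : c + σ c = 0) : D.L H A c := by
  obtain ⟨θ, hθ⟩ := exists_trace h
  obtain ⟨g, hg, z, ez⟩ := e (θ * c)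
  obtain ⟨g', hg', z', ez'⟩ := e'
  have hw : uh σ ((θ * c) • v) (D.E A) = 0 := by rw [uh_smul_left, hv, mul_zero]
  have hw2 : uh σ (v' + (θ * c) • v) (D.E A) = 0 := by rw [uh_add_left, hv', hw, add_zero]
  have m1 := ez.mul (D.sing A) (h.swap_zero hw) hv' ez'
  have m2 := ez'.mul (D.sing A) (h.swap_zero hv') hw ez
  refine ⟨(g' * g)⁻¹ * (g * g'), mul_mem (inv_mem (mul_mem hg' hg)) (mul_mem hg hg'),
    (D.diff h hw2 (by rw [add_comm]; exact hw2) m2 m1).congr (by module) ?_⟩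
  simp only [uh_add_left, uh_add_right, uh_smul_left, uh_smul_right, hvv,
    show uh σ v' v = 1 by rw [← h.symm, hvv, map_one]]
  have hσc : σ c = -c := eq_neg_of_add_eq_zero_right hc
  rw [map_mul, hσc]
  linear_combination c * hθ

/-- an element with prescribed shape is in the group -/
lemma mem_of_L (h : UFrob σ q) {A : Fin k ⊕ Fin k} {w : Fin n → F} {z : F} {x : Cfsg.SU n F q}
    (hw : uh σ w (D.E A) = 0) (hx : Ac σ x (D.E A) w z) (e : ∃ g ∈ H, ∃ z, Ac σ g (D.E A) w z)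
    (hL : ∀ c, c + σ c = 0 → D.L H A c) : x ∈ H := by
  obtain ⟨g, hg, z', hz'⟩ := e
  obtain ⟨t, ht, ht'⟩ := hL (z - z') (by
    rw [map_sub]
    linear_combination hx.constraint h (D.sing A) hw (D.pol_one' A) -
      hz'.constraint h (D.sing A) hw (D.pol_one' A))
  have := (hz'.mul (D.sing A) (h.swap_zero hw) (uh_zero_left _) ht').congr (add_zero w)
    (show z' + (z - z') - uh σ 0 w = z by rw [uh_zero_left]; ring)
  rw [hx.uniq this]
  exact mul_mem hg ht

/-- a torus element and the conjugate of another one give a whole root subgroup -/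
lemma fill (h : UFrob σ q) {A : Fin k ⊕ Fin k} {v : Fin n → F} (hv : uh σ v (D.E A) = 0)
    (P : F → Prop) (hP0 : P 0) (hPadd : ∀ z z' r r' : F, P z → P z' → P (z + z' - uh σ (r' • v) (r • v)))
    (hPneg : ∀ z r : F, P z → P (-z - uh σ (r • v) (r • v))) (hPmul : ∀ z κ : F, P z → P (z * κ))
    {a a' x : Cfsg.SU n F q} {κ ν κ' ν' z : F} (hcomm : a * a' = a' * a)
    (ha : a ∈ H) (hx' : x * a' * x⁻¹ ∈ H) (hxz : P z) (hx : Ac σ x (D.E A) v z)
    (aA : a.1.1 *ᵥ D.E A = κ • D.E A) (av : a.1.1 *ᵥ v = ν • v)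
    (aA' : a'.1.1 *ᵥ D.E A = κ' • D.E A) (av' : a'.1.1 *ᵥ v = ν' • v)
    (h1 : σ κ * ν ≠ 1) (h2 : σ κ' * ν' ≠ 1) (hgen : ∀ R : Subring F, σ κ * ν ∈ R → R = ⊤) :
    ∀ r : F, ∃ g ∈ H, ∃ z, P z ∧ Ac σ g (D.E A) (r • v) z := by
  have hrv : ∀ r : F, uh σ (r • v) (D.E A) = 0 := fun r => by rw [uh_smul_left, hv, mul_zero]
  have sc : ∀ (t : Cfsg.SU n F q) (κ ν : F), t.1.1 *ᵥ D.E A = κ • D.E A → t.1.1 *ᵥ v = ν • v →
      ∀ (g : Cfsg.SU n F q) (r z : F), Ac σ g (D.E A) (r • v) z →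
        Ac σ (t * g * t⁻¹) (D.E A) ((σ κ * ν * r) • v) (z * (κ * σ κ)) := by
    intro t κ ν tA tv g r z hg
    have := hg.conj h t
    rw [tA, mulVec_smul, tv] at this
    exact (this.unscale h κ).congr (by module) rfl
  let M : AddSubgroup F :=
    { carrier := {r | ∃ g ∈ H, ∃ z, P z ∧ Ac σ g (D.E A) (r • v) z}
      zero_mem' := ⟨1, one_mem H, 0, hP0, fun y => by simp [uh_zero_right]⟩
      add_mem' := by
        rintro r r' ⟨g, hg, z, hz, e⟩ ⟨g', hg', z', hz', e'⟩
        exact ⟨g * g', mul_mem hg hg', _, hPadd z z' r r' hz hz',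
          (e.mul (D.sing A) (h.swap_zero (hrv r)) (hrv r') e').congr (add_smul r r' v).symm rfl⟩
      neg_mem' := by
        rintro r ⟨g, hg, z, hz, e⟩
        exact ⟨g⁻¹, inv_mem hg, _, hPneg z r hz,
          (e.inv (D.sing A) (h.swap_zero (hrv r)) (hrv r)).congr (neg_smul r v).symm rfl⟩ }
  let R : Subring F :=
    { carrier := {l | ∀ r ∈ M, l * r ∈ M}
      mul_mem' := fun {l l'} hl hl' r hr => by rw [mul_assoc]; exact hl _ (hl' r hr)
      one_mem' := fun r hr => by rwa [one_mul]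
      add_mem' := fun {l l'} hl hl' r hr => by rw [add_mul]; exact add_mem (hl r hr) (hl' r hr)
      zero_mem' := fun r _ => by rw [zero_mul]; exact zero_mem M
      neg_mem' := fun {l} hl r hr => by rw [neg_mul]; exact neg_mem (hl r hr) }
  have hR : R = ⊤ := hgen R fun r ⟨g, hg, z, hz, e⟩ =>
    ⟨a * g * a⁻¹, mul_mem (mul_mem ha hg) (inv_mem ha), _, hPmul z _ hz, sc a κ ν aA av g r z e⟩
  set l := σ κ * ν
  set l' := σ κ' * ν'
  have hu : (l + (-(l' * l) + (l' + -1))) ∈ M := by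
    have e0 : Ac σ x (D.E A) ((1 : F) • v) z := by rwa [one_smul]
    have e1 := sc a κ ν aA av x 1 z e0
    rw [mul_one] at e1
    have e2 := sc a' κ' ν' aA' av' _ _ _
      ((e1.inv (D.sing A) (h.swap_zero (hrv l)) (hrv l)).congr (neg_smul l v).symm rfl)
    rw [mul_neg] at e2
    have e3 := sc a' κ' ν' aA' av' x 1 z e0
    rw [mul_one] at e3
    have e4 := (e0.inv (D.sing A) (h.swap_zero (hrv 1)) (hrv 1)).congr
      (neg_smul (1 : F) v).symm rfl
    have e34 := (e3.mul (D.sing A) (h.swap_zero (hrv l')) (hrv (-1)) e4).congr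
      (add_smul l' (-1) v).symm rfl
    have e234 := (e2.mul (D.sing A) (h.swap_zero (hrv _)) (hrv _) e34).congr
      (add_smul _ _ v).symm rfl
    refine ⟨_, ?_, _, ?_,
      (e1.mul (D.sing A) (h.swap_zero (hrv _)) (hrv _) e234).congr (add_smul _ _ v).symm rfl⟩
    · have := mul_mem (mul_mem (mul_mem ha hx') (inv_mem ha)) (inv_mem hx')
      convert this using 1
      rw [show a * (x * a' * x⁻¹) * a⁻¹ = (a * x * a⁻¹) * (a * a' * a⁻¹) * (a * x * a⁻¹)⁻¹ by group,
        hcomm, mul_inv_cancel_right]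
      group
    · exact hPadd _ _ _ _ (hPmul _ _ hxz) (hPadd _ _ _ _ (hPmul _ _ (hPneg _ _ (hPmul _ _ hxz)))
        (hPadd _ _ _ _ (hPmul _ _ hxz) (hPneg _ _ hxz)))
  intro r
  have hu0 : l + (-(l' * l) + (l' + -1)) ≠ 0 := by
    rw [show l + (-(l' * l) + (l' + -1)) = (l - 1) * (1 - l') by ring]
    exact mul_ne_zero (sub_ne_zero.2 h1) (sub_ne_zero.2 (Ne.symm h2))
  have : r / (l + (-(l' * l) + (l' + -1))) ∈ R := by rw [hR]; exact Subring.mem_top _
  have := this _ hu
  rwa [div_mul_cancel₀ r hu0] at this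

end

variable {m : ℕ}

/-- the cyclic shift with one exchange -/
def shift (A : Fin (m + 2) ⊕ Fin (m + 2)) : Fin (m + 2) ⊕ Fin (m + 2) :=
  Sum.map (finRotate (m + 2)) (finRotate (m + 2)) (if ix A = 0 then A.swap else A)

/-- the orbit of the shift -/
def orb (m j : ℕ) : Fin (m + 2) ⊕ Fin (m + 2) :=
  if (j / (m + 2)) % 2 = 0 then .inr ⟨(j + 1) % (m + 2), Nat.mod_lt _ (by omega)⟩
  else .inl ⟨(j + 1) % (m + 2), Nat.mod_lt _ (by omega)⟩

lemma shift_orb (j : ℕ) : shift (orb m j) = orb m (j + 1) := by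
  have key : ∀ i : Fin (m + 2), i.val = (j + 1) % (m + 2) →
      finRotate (m + 2) i = ⟨(j + 1 + 1) % (m + 2), Nat.mod_lt _ (by omega)⟩ := fun i hi => by
    rw [finRotate_succ_apply]
    ext
    rw [Fin.val_add, hi]
    simp [Nat.add_mod]
  have hd : (j + 1) / (m + 2) = j / (m + 2) + if (j + 1) % (m + 2) = 0 then 1 else 0 := by
    rw [Nat.succ_div]
    simp [Nat.dvd_iff_mod_eq_zero]
  simp only [orb, hd]
  by_cases h0 : (j + 1) % (m + 2) = 0 <;> by_cases hp : (j / (m + 2)) % 2 = 0 <;>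
    simp [shift, Fin.ext_iff, h0, hp, Nat.add_mod, key] <;>
    · first
        | omega
        | (split_ifs <;> simp_all [Fin.ext_iff, key] <;> omega)

lemma orb_swap (j : ℕ) : orb m (j + (m + 2)) = (orb m j).swap := by
  have e1 : (j + (m + 2) + 1) % (m + 2) = (j + 1) % (m + 2) := by
    rw [show j + (m + 2) + 1 = j + 1 + (m + 2) by ring, Nat.add_mod_right]
  have e2 : (j + (m + 2)) / (m + 2) = j / (m + 2) + 1 := Nat.add_div_right _ (by omega)
  simp only [orb, e1, e2]
  rcases Nat.mod_two_eq_zero_or_one (j / (m + 2)) with e | e <;> simp [e, Nat.add_mod]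

lemma orb_surj (A : Fin (m + 2) ⊕ Fin (m + 2)) (j₀ : ℕ) :
    ∃ j, j₀ ≤ j ∧ orb m j = A := by
  have base : ∀ i : Fin (m + 2), orb m ((i.val + (m + 1)) % (m + 2)) = .inr i := fun i => by
    have : (i.val + (m + 1)) % (m + 2) / (m + 2) = 0 := Nat.div_eq_of_lt (Nat.mod_lt _ (by omega))
    rw [orb, if_pos (by rw [this]), Sum.inr.injEq]
    ext
    show ((i.val + (m + 1)) % (m + 2) + 1) % (m + 2) = i.val
    rw [Nat.mod_add_mod, show i.val + (m + 1) + 1 = i.val + (m + 2) by ring, Nat.add_mod_right,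
      Nat.mod_eq_of_lt i.isLt]
  have per : ∀ t j, orb m (j + t * (2 * (m + 2))) = orb m j := fun t => by
    induction t with
    | zero => simp
    | succ t ih =>
      intro j
      rw [show j + (t + 1) * (2 * (m + 2)) = j + t * (2 * (m + 2)) + (m + 2) + (m + 2) by ring,
        orb_swap, orb_swap, Sum.swap_swap, ih]
  obtain ⟨j, hj⟩ : ∃ j, orb m j = A := by
    rcases A with i | i
    · exact ⟨_ + (m + 2), by rw [orb_swap, base i]; rfl⟩
    · exact ⟨_, base i⟩
  exact ⟨j + j₀ * (2 * (m + 2)), le_add_left (Nat.le_mul_of_pos_right _ (by omega)), by rw [per, hj]⟩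

lemma ix_orb (j : ℕ) : (ix (orb m j)).val = (j + 1) % (m + 2) := by
  unfold orb; split_ifs <;> rfl

/-- the special unitary group is generated by two elements -/
theorem two_gen [Finite F] (D : Data σ n (m + 2)) (hF : Nat.card F = q ^ 2) (h : UFrob σ q) (hn : 4 ≤ n) :
    ∃ a b : Cfsg.SU n F q, Subgroup.closure ({a, b} : Set (Cfsg.SU n F q)) = ⊤ := by
  obtain ⟨μ, hμ0, hμσ, hμμ, hgen⟩ := exists_primitive h
  have hμ1 : μ ≠ 1 := fun e => hμσ (by rw [e, map_one])
  have hσμ0 : σ μ ≠ 0 := (map_ne_zero σ).2 hμ0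
  have h01 : (0 : Fin (m + 2)) ≠ 1 := by simp [Fin.ext_iff]
  obtain ⟨a, a1, a2, a3, a4, ao, ad⟩ := D.exists_tor h h01 hμ0
  obtain ⟨π, hπ, hπd⟩ := D.exists_perm h (finRotate (m + 2))
  obtain ⟨φ, hφ, hφd⟩ := D.exists_flipper h 0
  set g := π * φ with hg
  have gd : g.1.1 *ᵥ D.d = D.d := by rw [hg, su_mul_mulVec, hφd, hπd]
  have gE : ∀ A, ∃ s : F, s ≠ 0 ∧ g.1.1 *ᵥ D.E A = s • D.E (shift A) := fun A => by
    obtain ⟨s, hs, e⟩ := hφ A
    obtain ⟨r, hr, e'⟩ := hπ (if ix A = 0 then A.swap else A)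
    exact ⟨s * r, mul_ne_zero hs hr, by rw [hg, su_mul_mulVec, e, mulVec_smul, e', smul_smul]; rfl⟩
  have adiag : ∀ A, ∃ κ : F, a.1.1 *ᵥ D.E A = κ • D.E A := fun A => by
    rcases eq_or_ne (ix A) 0 with e | e
    · rcases A with i | i <;> simp at e <;> subst e
      exacts [⟨_, a1⟩, ⟨_, a2⟩]
    rcases eq_or_ne (ix A) 1 with e' | e'
    · rcases A with i | i <;> simp at e' <;> subst e'
      exacts [⟨_, a3⟩, ⟨_, a4⟩]
    exact ⟨1, by rw [ao A e e', one_smul]⟩
  set a' := g * a * g⁻¹ with ha'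
  have a'd : a'.1.1 *ᵥ D.d = D.d := by
    conv_lhs => rw [← gd]
    rw [ha', su_mul_mulVec, su_mul_mulVec, su_inv_mulVec, ad, gd]
  have a'E : ∀ A (κ : F), a.1.1 *ᵥ D.E A = κ • D.E A →
      a'.1.1 *ᵥ D.E (shift A) = κ • D.E (shift A) := fun A κ hκ => by
    obtain ⟨s, hs, e⟩ := gE A
    have e' : D.E (shift A) = g.1.1 *ᵥ (s⁻¹ • D.E A) := by
      rw [mulVec_smul, e, smul_smul, inv_mul_cancel₀ hs, one_smul]
    rw [e', ha', su_mul_mulVec, su_mul_mulVec, su_inv_mulVec, mulVec_smul, hκ]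
    simp only [mulVec_smul]
    module
  clear_value a'
  have hcomm : a * a' = a' * a := by
    refine D.ext_family (fun A => ?_) (by rw [su_mul_mulVec, su_mul_mulVec, a'd, ad, a'd])
    obtain ⟨j, hj, rfl⟩ := orb_surj A 1
    obtain ⟨κ, hκ⟩ := adiag (orb m (j - 1))
    have e := a'E _ κ hκ
    rw [shift_orb, Nat.sub_add_cancel hj] at e
    obtain ⟨ν, hν⟩ := adiag (orb m j)
    rw [su_mul_mulVec, su_mul_mulVec, e, hν, mulVec_smul, hν, mulVec_smul, e, smul_smul, smul_smul,
      mul_comm]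
  have stepX : ∀ {H : Subgroup (Cfsg.SU n F q)}, g ∈ H → ∀ A B, (∀ s, D.X H A B s) →
      ∀ s, D.X H (shift A) (shift B) s := by
    intro H hgH A B hX s
    obtain ⟨α, hα, eA⟩ := gE A
    obtain ⟨β, hβ, eB⟩ := gE B
    obtain ⟨t, ht, et⟩ := hX (s / (σ α * β))
    refine ⟨g * t * g⁻¹, mul_mem (mul_mem hgH ht) (inv_mem hgH), ?_⟩
    have := et.conj h g
    rw [eA, mulVec_smul, eB] at this
    refine (this.unscale h α).congr ?_ (by ring)
    have : σ α ≠ 0 := (map_ne_zero σ).2 hα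
    match_scalars
    field_simp
  rcases D.dd with dd | d0
  · -- a complement of dimension one
    have hv : uh σ D.d (D.E (.inl 1)) = 0 := D.pd' h _
    obtain ⟨θ, hθ⟩ := exists_trace h
    obtain ⟨x, hx⟩ := exists_ac h (z := -θ) (D.sing (.inl 1)) hv (by
      rw [dd, map_neg]; linear_combination (-1 : F) * hθ)
    refine ⟨a, x * g, ?_⟩
    set H := Subgroup.closure ({a, x * g} : Set (Cfsg.SU n F q))
    have haH : a ∈ H := Subgroup.subset_closure (Or.inl rfl)
    have hbH : x * g ∈ H := Subgroup.subset_closure (Or.inr rfl)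
    have hx' : x * a' * x⁻¹ ∈ H := by
      convert mul_mem (mul_mem hbH haH) (inv_mem hbH) using 1
      rw [ha']; group
    have f1 : shift (.inr (0 : Fin (m + 2))) = .inl 1 := by
      simp [shift, finRotate_succ_apply]
    have e' := a'E _ _ a2
    rw [f1] at e'
    have hfill := D.fill h hv (fun _ => True) trivial (fun _ _ _ _ _ _ => trivial)
      (fun _ _ _ => trivial) (fun _ _ _ => trivial) hcomm haH hx' trivial hx a3
      (by rw [ad, one_smul] : a.1.1 *ᵥ D.d = (1 : F) • D.d) e'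
      (by rw [a'd, one_smul] : a'.1.1 *ᵥ D.d = (1 : F) • D.d)
      (by rw [h.invol, mul_one]; exact hμ1)
      (by rw [map_inv₀, h.invol, mul_one]; exact fun e => hμ1 (inv_eq_one.1 e))
      (fun R hR => hgen R (by rw [h.invol, mul_one] at hR; exact mul_mem hR hR))
    have hP0 : ∀ r, D.P H (.inl 1) r := fun r =>
      let ⟨t, ht, z, _, e⟩ := hfill r; ⟨t, ht, z, e⟩
    have hL0 : ∀ c, c + σ c = 0 → D.L H (.inl 1) c := fun c hc =>
      D.L_of h hv hv dd hP0 (by obtain ⟨t, ht, z, e⟩ := hP0 1; exact ⟨t, ht, z, by rwa [one_smul] at e⟩)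
        hc
    have hxH : x ∈ H := D.mem_of_L h hv hx
      (by obtain ⟨t, ht, z, e⟩ := hP0 1; exact ⟨t, ht, z, by rwa [one_smul] at e⟩) hL0
    have hgH : g ∈ H := (Subgroup.mul_mem_cancel_left H hxH).1 hbH
    have hP : ∀ A r, D.P H A r := by
      have stepP : ∀ A, (∀ r, D.P H A r) → ∀ r, D.P H (shift A) r := by
        intro A hA r
        obtain ⟨α, hα, eA⟩ := gE A
        obtain ⟨t, ht, z, et⟩ := hA (r / σ α)
        refine ⟨g * t * g⁻¹, mul_mem (mul_mem hgH ht) (inv_mem hgH), z * (α * σ α), ?_⟩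
        have := et.conj h g
        rw [eA, mulVec_smul, gd] at this
        refine (this.unscale h α).congr ?_ rfl
        rw [smul_smul, mul_div_cancel₀ _ ((map_ne_zero σ).2 hα)]
      intro A
      obtain ⟨j₀, -, hj₀⟩ := orb_surj (m := m) (.inl 1) 0
      obtain ⟨j, hj, rfl⟩ := orb_surj A j₀
      induction j, hj using Nat.le_induction with
      | base => rw [hj₀]; exact hP0
      | succ j _ ih => rw [← shift_orb]; exact stepP _ ih
    refine D.top_of_roots hF hn h 0 (fun A B hAB s => ?_) (fun A c hc => D.L_of h (D.pd' h A)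
      (D.pd' h A) dd (hP A) (by obtain ⟨t, ht, z, e⟩ := hP A 1; exact ⟨t, ht, z, by rwa [one_smul] at e⟩)
      hc) hP
    obtain ⟨u, hu, za, eu⟩ := hP A 1
    obtain ⟨t, ht, zb, et⟩ := hP B (-σ s)
    rw [one_smul] at eu
    have tA : t.1.1 *ᵥ D.E A = D.E A := by
      rw [et, D.pol_ix hAB, uh_smul_right, D.pd]; module
    have td : t.1.1 *ᵥ D.d = D.d + s • D.E B := by
      rw [et, D.pd' h, uh_smul_right, dd, map_neg, h.invol]; module
    have e2 := eu.conj h t
    rw [tA, td] at e2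
    refine ⟨u⁻¹ * (t * u * t⁻¹), mul_mem (inv_mem hu) (mul_mem (mul_mem ht hu) (inv_mem ht)),
      (D.diff h (D.pd' h A) (by rw [uh_add_left, D.pd' h, uh_smul_left, D.pol_ix hAB.symm, mul_zero,
        add_zero]) eu e2).congr (by module) ?_⟩
    rw [uh_add_left, uh_smul_left, D.pd, mul_zero, add_zero]
    ring
  · -- no complement
    have hAB : ix (.inl 0 : Fin (m + 2) ⊕ Fin (m + 2)) ≠ ix (.inl 1 : Fin (m + 2) ⊕ Fin (m + 2)) :=
      h01
    obtain ⟨x, hx⟩ := D.exists_X h hAB 1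
    rw [one_smul] at hx
    refine ⟨a, x * g, ?_⟩
    set H := Subgroup.closure ({a, x * g} : Set (Cfsg.SU n F q))
    have haH : a ∈ H := Subgroup.subset_closure (Or.inl rfl)
    have hbH : x * g ∈ H := Subgroup.subset_closure (Or.inr rfl)
    have hx' : x * a' * x⁻¹ ∈ H := by
      convert mul_mem (mul_mem hbH haH) (inv_mem hbH) using 1
      rw [ha']; group
    have f1 : shift (.inr (0 : Fin (m + 2))) = .inl 1 := by simp [shift, finRotate_succ_apply]
    have eB := a'E _ _ a2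
    rw [f1] at eB
    obtain ⟨κ, eA, hκ⟩ : ∃ κ : F, a'.1.1 *ᵥ D.E (.inl 0) = κ • D.E (.inl 0) ∧
        σ κ * (σ μ)⁻¹ ≠ 1 := by
      have f2 : shift (.inl (Fin.last (m + 1))) = .inl (0 : Fin (m + 2)) := by
        have h0 : Fin.last (m + 1) ≠ (0 : Fin (m + 2)) := by simp [Fin.ext_iff]
        rw [shift, ix_inl, if_neg h0, Sum.map_inl, finRotate_succ_apply, Fin.last_add_one]
      by_cases e : (Fin.last (m + 1) : Fin (m + 2)) = 1
      · refine ⟨σ μ, ?_, ?_⟩
        · rw [← f2]; exact a'E _ _ (by rw [e]; exact a3)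
        · rw [h.invol, ← div_eq_mul_inv, Ne, div_eq_one_iff_eq hσμ0]; exact Ne.symm hμσ
      · refine ⟨1, ?_, ?_⟩
        · rw [← f2]
          exact a'E _ _ (by rw [ao _ (by simp [Fin.ext_iff]) (by simpa using e), one_smul])
        · rw [map_one, one_mul]; exact fun e => hμ1 (σ.injective (by simpa using inv_eq_one.1 e))
    have hv := D.pol_ix hAB.symm
    have hzero : ∀ r r' : F, uh σ (r • D.E (.inl (1 : Fin (m + 2)))) (r' • D.E (.inl 1)) = 0 :=
      fun r r' => by rw [uh_smul_left, uh_smul_right, D.sing, mul_zero, mul_zero]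
    have hfill := D.fill h hv (fun z => z = 0) rfl
      (fun z z' r r' e e' => by rw [e, e', hzero]; ring) (fun z r e => by rw [e, hzero]; ring)
      (fun z κ e => by rw [e, zero_mul]) hcomm haH hx' rfl hx a1 a3 eA eB
      (by rw [← map_mul, ← map_one σ]; exact fun e => hμμ (σ.injective e)) hκ
      (fun R hR => by
        rw [← map_mul] at hR
        have hR' : R.comap σ = ⊤ := hgen _ hR
        refine eq_top_iff.2 fun t _ => ?_
        have : σ t ∈ R.comap σ := by rw [hR']; exact Subring.mem_top _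
        simpa [h.invol] using this)
    have hX0 : ∀ s, D.X H (.inl 0) (.inl 1) s := fun s => by
      obtain ⟨t, ht, z, rfl, e⟩ := hfill s
      exact ⟨t, ht, e⟩
    have hxH : x ∈ H := by
      obtain ⟨t, ht, e⟩ := hX0 1
      rw [one_smul] at e
      rwa [hx.uniq e]
    have hgH : g ∈ H := (Subgroup.mul_mem_cancel_left H hxH).1 hbH
    let R : Fin (m + 2) ⊕ Fin (m + 2) → Fin (m + 2) ⊕ Fin (m + 2) → Prop := fun A B =>
      ∀ s, D.X H A B s
    have symm : ∀ A B, R A B → R B A := fun A B hR s => by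
      obtain ⟨t, ht, e⟩ := hR (-σ s)
      exact ⟨t, ht, (e.flip h).congr (by rw [map_neg, h.invol, neg_neg]) rfl⟩
    have join : ∀ A B C, ix A ≠ ix B → ix B ≠ ix C → ix A ≠ ix C → R A B → R B.swap C → R A C := by
      intro A B C h1 h2 h3 r1 r2 s
      obtain ⟨u, hu, eu⟩ := r1 1
      obtain ⟨t, ht, et⟩ := r2 s
      rw [one_smul] at eu
      have tA : t.1.1 *ᵥ D.E A = D.E A := by
        rw [et, D.pol_ix (show ix A ≠ ix B.swap by rwa [ix_swap]), uh_smul_right, D.pol_ix h3]; module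
      have tB : t.1.1 *ᵥ D.E B = D.E B + s • D.E C := by
        rw [et, D.pol_one, uh_smul_right, D.pol_ix h2]; module
      have e2 := eu.conj h t
      rw [tA, tB] at e2
      refine ⟨u⁻¹ * (t * u * t⁻¹), mul_mem (inv_mem hu) (mul_mem (mul_mem ht hu) (inv_mem ht)),
        (D.diff h (D.pol_ix h1.symm) (by rw [uh_add_left, D.pol_ix h1.symm, uh_smul_left,
          D.pol_ix h3.symm, mul_zero, add_zero]) eu e2).congr (by module) ?_⟩
      rw [uh_add_left, uh_smul_left, D.sing, D.pol_ix h2.symm]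
      ring
    obtain ⟨j₀, -, hj₀⟩ := orb_surj (m := m) (.inl 0) 0
    have hedge : ∀ j, j₀ ≤ j → R (orb m j) (orb m (j + (m + 2) + 1)) := by
      intro j hj
      induction j, hj using Nat.le_induction with
      | base =>
        rw [hj₀, ← shift_orb, orb_swap, hj₀, show shift (Sum.swap (.inl (0 : Fin (m + 2)))) =
          .inl 1 from f1]
        exact hX0
      | succ j _ ih =>
        rw [← shift_orb, show j + 1 + (m + 2) + 1 = (j + (m + 2) + 1) + 1 by ring,
          ← shift_orb (j + (m + 2) + 1)]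
        exact stepX hgH _ _ ih
    have hixne : ∀ i d, 1 ≤ d → d < m + 2 → ix (orb m i) ≠ ix (orb m (i + (m + 2) + d)) := by
      intro i d hd1 hd2 e
      have := congrArg Fin.val e
      rw [ix_orb, ix_orb, show i + (m + 2) + d + 1 = i + d + 1 + (m + 2) by ring,
        Nat.add_mod_right] at this
      have h0 : (m + 2) ∣ (i + d + 1) - (i + 1) := (Nat.modEq_iff_dvd' (by omega)).1 this
      rw [show (i + d + 1) - (i + 1) = d by omega] at h0
      have := Nat.le_of_dvd (by omega) h0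
      omega
    have hchain : ∀ d, 1 ≤ d → d < m + 2 → ∀ i, j₀ ≤ i → R (orb m i) (orb m (i + (m + 2) + d)) := by
      intro d hd
      induction d, hd using Nat.le_induction with
      | base => exact fun _ i hi => hedge i hi
      | succ d hd ih =>
        intro hd2 i hi
        refine join _ (orb m (i + (m + 2) + d)) _ (hixne i d hd (by omega)) ?_
          (hixne i (d + 1) (by omega) hd2) (ih (by omega) i hi) ?_
        · rw [show i + (m + 2) + (d + 1) = i + d + (m + 2) + 1 by ring]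
          have := hixne (i + d) 1 le_rfl (by omega)
          rwa [show i + (m + 2) + d = i + d + (m + 2) by ring, orb_swap, ix_swap]
        · rw [← orb_swap, show i + (m + 2) + d + (m + 2) = i + d + (m + 2) + (m + 2) by ring,
            orb_swap, orb_swap, Sum.swap_swap,
            show i + (m + 2) + (d + 1) = i + d + (m + 2) + 1 by ring]
          exact hedge (i + d) (by omega)
    have hX : ∀ A B, ix A ≠ ix B → R A B := by
      intro A B hne
      obtain ⟨i, hi, rfl⟩ := orb_surj A j₀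
      obtain ⟨j, hj, rfl⟩ := orb_surj B i
      obtain ⟨e, rfl⟩ := Nat.exists_eq_add_of_le hj
      have per : ∀ t l, orb m (l + t * (2 * (m + 2))) = orb m l := fun t => by
        induction t with
        | zero => simp
        | succ t ih =>
          intro l
          rw [show l + (t + 1) * (2 * (m + 2)) = l + t * (2 * (m + 2)) + (m + 2) + (m + 2) by ring,
            orb_swap, orb_swap, Sum.swap_swap, ih]
      have hdm := Nat.div_add_mod e (2 * (m + 2))
      set t := e / (2 * (m + 2))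
      have hlt : e % (2 * (m + 2)) < 2 * (m + 2) := Nat.mod_lt _ (by omega)
      rw [show i + e = i + e % (2 * (m + 2)) + t * (2 * (m + 2)) by rw [mul_comm t]; omega, per]
        at hne ⊢
      have hr0 : e % (2 * (m + 2)) ≠ 0 := fun e0 => hne (by rw [e0, add_zero])
      have hrk : e % (2 * (m + 2)) ≠ m + 2 := fun e0 => hne (by rw [e0, orb_swap, ix_swap])
      rcases Nat.lt_or_gt_of_ne hrk with hr | hr
      · refine symm _ _ ?_
        have := hchain (m + 2 - e % (2 * (m + 2))) (by omega) (by omega)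
          (i + e % (2 * (m + 2))) (by omega)
        rwa [show i + e % (2 * (m + 2)) + (m + 2) + (m + 2 - e % (2 * (m + 2))) =
          i + (m + 2) + (m + 2) by omega, orb_swap, orb_swap, Sum.swap_swap] at this
      · have := hchain (e % (2 * (m + 2)) - (m + 2)) (by omega) (by omega) i hi
        rwa [show i + (m + 2) + (e % (2 * (m + 2)) - (m + 2)) = i + e % (2 * (m + 2)) by omega]
          at this
    have other : ∀ A : Fin (m + 2) ⊕ Fin (m + 2), ∃ i : Fin (m + 2), ix A ≠ i := fun A => by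
      obtain ⟨i, hi⟩ := exists_ne (ix A)
      exact ⟨i, hi.symm⟩
    refine D.top_of_roots hF hn h 0 hX (fun A c hc => ?_) (fun A r => ⟨1, one_mem H, 0, fun y => by
      simp [d0, uh_zero_right]⟩)
    obtain ⟨i, hi⟩ := other A
    refine D.L_of h (v := D.E (.inl i)) (v' := D.E (.inr i)) (D.pol_ix (by simpa using Ne.symm hi))
      (D.pol_ix (by simpa using Ne.symm hi)) (D.pol_one (.inl i))
      (fun r => let ⟨t, ht, e⟩ := hX A _ (by simpa using hi) r; ⟨t, ht, 0, e⟩) ?_ hc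
    obtain ⟨t, ht, e⟩ := hX A (.inr i) (by simpa using hi) 1
    exact ⟨t, ht, 0, by rwa [one_smul] at e⟩

end Data

end CfsgLib.KnownA.SuTwo
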