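/-
A hyperbolic family in every dimension at least four, and the resulting generation.
-/
import Cfsg.Agent.Lib.KnownA.SuTwo.Main
import Cfsg.Agent.Lib.KnownA.SuGen.Elements

set_option autoImplicit false

namespace CfsgLib.KnownA.SuTwo

open Matrix CfsgLib.Classical CfsgLib.Classical.Unitary CfsgLib.KnownA.SuGen

variable {F : Type*} [Field F] {σ : F →+* F} {q n k : ℕ}

theorem exists_data_odd [Finite F] (hF : Nat.card F = q ^ 2) (h : UFrob σ q)
    (hn : n = 2 * k + 1) : Nonempty (Data σ n k) := by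
  classical
  obtain ⟨B⟩ := exists_frame (σ := σ) hF h hn
  refine ⟨{ E := Sum.elim B.e B.f, d := B.d, pol := ?_, pd := ?_, dd := Or.inl B.dd, dec := ?_ }⟩
  · rintro (i | i) (j | j) <;> simp [B.ee, B.ff, B.ef, B.fe, eq_comm]
  · rintro (i | i) <;> simp [B.ed, B.fd]
  · intro x
    rw [sub_eq_iff_eq_add]
    conv_lhs => rw [B.expand x]
    simp only [Fintype.sum_sum_type, Sum.swap_inl, Sum.swap_inr, Sum.elim_inl, Sum.elim_inr,
      Finset.sum_add_distrib]
    abel

theorem exists_data_even [Finite F] (hF : Nat.card F = q ^ 2) (h : UFrob σ q)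
    (hn : n = 2 * k) : Nonempty (Data σ n k) := by
  classical
  obtain ⟨t, ht⟩ := exists_pow_succ_eq hF (c := -1) (by rw [← h.pow, map_neg, map_one])
  have htn : t * σ t = -1 := by rw [h.pow, ← pow_succ']; exact ht
  obtain ⟨η, hη, hη2⟩ := exists_normOne_sq_ne_one hF
  have hηn : η * σ η = 1 := by rw [h.pow, ← pow_succ']; exact hη
  obtain ⟨μ, hμn, hμt⟩ : ∃ μ : F, μ * σ μ = -1 ∧ μ ≠ t := by
    refine ⟨t * η, by rw [map_mul]; linear_combination (η * σ η) * htn - hηn, fun e => hη2 ?_⟩
    have : t * (η - 1) = 0 := by linear_combination e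
    rcases mul_eq_zero.1 this with e | e
    · rw [e, zero_mul] at htn
      exact absurd htn.symm (neg_ne_zero.2 one_ne_zero)
    · rw [sub_eq_zero.1 e, one_pow]
  have hne : 1 + μ * σ t ≠ 0 := fun e => hμt (by linear_combination μ * htn - t * e)
  set κ := (1 + μ * σ t)⁻¹ with hκ
  have hκ1 : κ * (1 + μ * σ t) = 1 := inv_mul_cancel₀ hne
  have hκ2 : σ κ * (1 + σ μ * t) = 1 := by
    have := congrArg σ hκ1
    rwa [map_mul, map_add, map_one, map_mul, h.invol] at this
  let X : Fin k → Fin n := fun i => ⟨2 * i.val, by omega⟩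
  let Y : Fin k → Fin n := fun i => ⟨2 * i.val + 1, by omega⟩
  have hXY : ∀ i j, X i ≠ Y j := fun i j e => by simp [X, Y, Fin.ext_iff] at e; omega
  have hXX : ∀ i j, X i = X j ↔ i = j := fun i j => by simp [X, Fin.ext_iff]
  have hYY : ∀ i j, Y i = Y j ↔ i = j := fun i j => by simp [Y, Fin.ext_iff]
  let r : Fin k ⊕ Fin k → F := Sum.elim (fun _ => 1) (fun _ => κ)
  let s : Fin k ⊕ Fin k → F := Sum.elim (fun _ => t) (fun _ => κ * μ)
  let E : Fin k ⊕ Fin k → Fin n → F := fun A =>
    Pi.single (X (ix A)) (r A) + Pi.single (Y (ix A)) (s A)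
  have key : ∀ (x : Fin n → F) A, uh σ x (E A) = x (X (ix A)) * σ (r A) + x (Y (ix A)) * σ (s A) :=
    fun x A => by simp [E, uh_add_right, uh_single_right]
  have cX : ∀ A i, E A (X i) = if ix A = i then r A else 0 := fun A i => by
    simp [E, Pi.single_apply, hXX, hXY, eq_comm]
  have cY : ∀ A i, E A (Y i) = if ix A = i then s A else 0 := fun A i => by
    simp [E, Pi.single_apply, hYY, (hXY _ _).symm, eq_comm]
  have hpol : ∀ A B, uh σ (E A) (E B) = if B = A.swap then 1 else 0 := by
    intro A B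
    rw [key, cX, cY]
    by_cases e : ix A = ix B
    · rw [if_pos e, if_pos e]
      rcases A with i | i <;> rcases B with j | j <;> simp at e <;> subst e <;> simp [r, s]
      · linear_combination htn
      · linear_combination hκ2
      · linear_combination hκ1
      · linear_combination (κ * σ κ) * hμn
    · rw [if_neg e, if_neg e, if_neg fun e' => e (by rw [e', ix_swap])]
      ring
  refine ⟨{ E := E, d := 0, pol := hpol, pd := fun A => uh_zero_right _, dd := Or.inr rfl,
            dec := fun x => ?_ }⟩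
  rw [smul_zero]
  set y := x - ∑ A, uh σ x (E A.swap) • E A with hy
  have hperp : ∀ A, uh σ y (E A) = 0 := fun A => by
    rw [hy, uh_sub_left, uh_sum_left]
    rcases A with i | i <;> simp [uh_smul_left, hpol]
  have hσκ : σ κ ≠ 0 := (map_ne_zero σ).2 (inv_ne_zero hne)
  have hpair : ∀ i, y (X i) = 0 ∧ y (Y i) = 0 := fun i => by
    have h1 := hperp (.inl i)
    have h2 := hperp (.inr i)
    rw [key] at h1 h2
    simp only [ix_inl, ix_inr, r, s, Sum.elim_inl, Sum.elim_inr, map_one, map_mul, mul_one] at h1 h2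
    have h3 : y (X i) + y (Y i) * σ μ = 0 :=
      (mul_left_inj' hσκ).1 (by rw [zero_mul]; linear_combination h2)
    have h4 : y (Y i) * (σ μ - σ t) = 0 := by linear_combination h3 - h1
    have h5 := (mul_eq_zero.1 h4).resolve_right fun e => hμt (σ.injective (sub_eq_zero.1 e))
    exact ⟨by linear_combination h1 - σ t * h5, h5⟩
  funext l
  rcases Nat.even_or_odd' l.val with ⟨i, hi | hi⟩
  · rw [show l = X ⟨i, by omega⟩ from Fin.ext hi]; exact (hpair _).1
  · rw [show l = Y ⟨i, by omega⟩ from Fin.ext hi]; exact (hpair _).2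

theorem two_gen [Finite F] (hF : Nat.card F = q ^ 2) (hn : 4 ≤ n) :
    ∃ a b : Cfsg.SU n F q, Subgroup.closure ({a, b} : Set (Cfsg.SU n F q)) = ⊤ := by
  obtain ⟨σ, h⟩ := exists_uFrob hF
  obtain ⟨m, hm | hm⟩ : ∃ m, n = 2 * (m + 2) ∨ n = 2 * (m + 2) + 1 := ⟨n / 2 - 2, by omega⟩
  · obtain ⟨D⟩ := exists_data_even hF h hm
    exact D.two_gen hF h hn
  · obtain ⟨D⟩ := exists_data_odd hF h hm
    exact D.two_gen hF h hn

end CfsgLib.KnownA.SuTwo
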